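import Cfsg.Agent.Lib.LocalCGT.Blocks

/-!
The module of a block: it is irreducible modulo the fixed points, its commutator with the block is
central in `O_p(G)`, and the Thompson subgroup acts nontrivially on that commutator.
-/

set_option autoImplicit false
set_option linter.unusedSectionVars false
set_option linter.unusedVariables false

namespace CfsgLib.LocalCGT

open CfsgLib.Transfer
open scoped commutatorElement Pointwise MatrixGroups

/-! ### Natural modules of the derived groups -/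

theorem derived_span {F : Type*} [Field F] [Finite F] (N : AddSubgroup (Fin 2 → F))
    (hN : ∀ g ∈ commutator (SL(2, F)), ∀ v ∈ N, (g : Matrix (Fin 2) (Fin 2) F).mulVec v ∈ N)
    {v : Fin 2 → F} (hv : v ∈ N) (hv0 : v ≠ 0) : N = ⊤ := by
  have hk : ∀ a : F, ∀ u ∈ N, ![-(a * u 1), a * a * u 1 - a * u 0] ∈ N ∧
      ![a * a * u 0 + a * u 1, a * u 0] ∈ N := by
    intro a u hu
    let g : SL(2, F) := ⟨!![0, 1; -1, 0], by simp [Matrix.det_fin_two]⟩
    let t : SL(2, F) := ⟨!![1, a; 0, 1], by simp [Matrix.det_fin_two]⟩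
    have hgt : ⁅g, t⁆ ∈ commutator (SL(2, F)) :=
      Subgroup.commutator_mem_commutator (Subgroup.mem_top g) (Subgroup.mem_top t)
    have h1 := N.sub_mem (hN _ hgt u hu) hu
    have h2 := N.sub_mem (hN _ (inv_mem hgt) u hu) hu
    have e : ((⁅g, t⁆ : SL(2, F)) : Matrix (Fin 2) (Fin 2) F) = !![1, -a; -a, a * a + 1] := by
      rw [commutatorElement_def, Matrix.SpecialLinearGroup.coe_mul, Matrix.SpecialLinearGroup.coe_mul,
        Matrix.SpecialLinearGroup.coe_mul, Matrix.SpecialLinearGroup.coe_inv,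
        Matrix.SpecialLinearGroup.coe_inv]
      simp [g, t, Matrix.adjugate_fin_two, Matrix.mul_fin_two]
    rw [Matrix.SpecialLinearGroup.coe_inv, e] at h2
    rw [e] at h1
    constructor
    · convert h1 using 1
      ext i
      fin_cases i <;> simp [Matrix.mulVec, dotProduct, Fin.sum_univ_two] <;> ring
    · convert h2 using 1
      ext i
      fin_cases i <;> simp [Matrix.mulVec, dotProduct, Fin.sum_univ_two, Matrix.adjugate_fin_two] <;> ring
  have hsq : ∀ a : F, ∀ u ∈ N, (a * a) • u ∈ N := by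
    intro a u hu
    convert N.add_mem (hk a u hu).1 (hk a u hu).2 using 1
    ext i
    fin_cases i <;> simp <;> ring
  have hsmul : ∀ z : F, ∀ u ∈ N, z • u ∈ N := by
    intro z u hu
    obtain ⟨q, hq⟩ := CharP.exists F
    by_cases h2 : q = 2
    · subst h2
      haveI : Fact (Nat.Prime 2) := ⟨Nat.prime_two⟩
      haveI : CharP F 2 := hq
      obtain ⟨a, rfl⟩ := surjective_frobenius F 2 z
      rw [frobenius_def, pow_two]
      exact hsq a u hu
    · haveI := hq
      have h20 : (2 : F) ≠ 0 := Ring.two_ne_zero (by rwa [ringChar.eq F q])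
      have e : z • u = ((z + 1) / 2 * ((z + 1) / 2)) • u - ((z - 1) / 2 * ((z - 1) / 2)) • u := by
        rw [← sub_smul]
        congr 1
        field_simp
        ring
      rw [e]
      exact N.sub_mem (hsq _ u hu) (hsq _ u hu)
  obtain ⟨a, ha⟩ : ∃ a : F, a * (a * (v 0 * v 1) - v 0 * v 0 + v 1 * v 1) ≠ 0 := by
    by_contra hcon
    simp only [not_exists, ne_eq, not_not] at hcon
    have h1 : v 0 * v 1 - v 0 * v 0 + v 1 * v 1 = 0 := by simpa using hcon 1
    by_cases hF : ∃ a : F, a ≠ 0 ∧ a ≠ 1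
    · obtain ⟨a, ha0, ha1⟩ := hF
      have h2 := (mul_eq_zero.1 (hcon a)).resolve_left ha0
      have h3 : (a - 1) * (v 0 * v 1) = 0 := by linear_combination h2 - h1
      rcases mul_eq_zero.1 ((mul_eq_zero.1 h3).resolve_left (sub_ne_zero.2 ha1)) with h | h
      · refine hv0 (funext fun i => ?_)
        have h4 : v 1 = 0 := by
          rw [h] at h1
          simpa using h1
        fin_cases i <;> simp [h, h4]
      · refine hv0 (funext fun i => ?_)
        have h4 : v 0 = 0 := by
          rw [h] at h1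
          simpa using h1
        fin_cases i <;> simp [h, h4]
    · simp only [not_exists, not_and, ne_eq, not_not] at hF
      refine hv0 (funext fun i => ?_)
      by_cases h0 : v 0 = 0
      · have h4 : v 1 = 0 := by
          rw [h0] at h1
          simpa using h1
        fin_cases i <;> simp [h0, h4]
      · by_cases h5 : v 1 = 0
        · rw [h5] at h1
          exact absurd (by simpa using h1) h0
        · rw [hF _ h0, hF _ h5] at h1
          simp at h1
  obtain ⟨hd, -⟩ := hk a v hv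
  set d : Fin 2 → F := ![-(a * v 1), a * a * v 1 - a * v 0] with hd'
  have hD : v 0 * d 1 - v 1 * d 0 ≠ 0 := by
    simp only [hd', Matrix.cons_val_zero, Matrix.cons_val_one, Matrix.cons_val_fin_one]
    intro h
    exact ha (by linear_combination h)
  refine eq_top_iff.2 fun w _ => ?_
  have e : w = ((w 0 * d 1 - w 1 * d 0) / (v 0 * d 1 - v 1 * d 0)) • v +
      ((v 0 * w 1 - v 1 * w 0) / (v 0 * d 1 - v 1 * d 0)) • d := by
    ext i
    simp only [Pi.add_apply, Pi.smul_apply, smul_eq_mul, div_mul_eq_mul_div, ← add_div]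
    rw [eq_div_iff hD]
    fin_cases i <;> simp <;> ring
  rw [e]
  exact N.add_mem (hsmul _ v hv) (hsmul _ d hd)

theorem alternating_span {n : ℕ} (hn3 : 3 ≤ n) (hodd : Odd n) (N : AddSubgroup (Fin n → ZMod 2))
    (hN : ∀ σ ∈ alternatingGroup (Fin n), ∀ v ∈ N, (fun i => v (σ⁻¹ i)) ∈ N)
    {v : Fin n → ZMod 2} (hv : v ∈ N) (hv0 : v ≠ 0) (hsum : ∑ i, v i = 0) :
    ∀ w : Fin n → ZMod 2, ∑ i, w i = 0 → w ∈ N := by
  classical
  have third : ∀ a b : Fin n, ∃ c, c ≠ a ∧ c ≠ b := by
    intro a b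
    by_contra h
    push Not at h
    have hsub : (Finset.univ : Finset (Fin n)) ⊆ {a, b} := fun c _ => by
      by_cases hc : c = a
      · simp [hc]
      · simp [h c hc]
    have h2 := (Finset.card_le_card hsub).trans Finset.card_le_two
    rw [Finset.card_univ, Fintype.card_fin] at h2
    omega
  have cyc : ∀ a b c : Fin n, a ≠ b → a ≠ c → b ≠ c →
      Equiv.swap a b * Equiv.swap b c ∈ alternatingGroup (Fin n) := fun a b c hab hac hbc => by
    rw [Equiv.Perm.mem_alternatingGroup, map_mul, Equiv.Perm.sign_swap hab, Equiv.Perm.sign_swap hbc]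
    rfl
  obtain ⟨i, j, hij⟩ : ∃ i j, v i ≠ v j := by
    by_contra h
    push Not at h
    refine hv0 (funext fun i => ?_)
    rw [Finset.sum_congr rfl (fun k _ => h k i), Finset.sum_const, Finset.card_univ, Fintype.card_fin,
      nsmul_eq_mul, (ZMod.natCast_eq_one_iff_odd).2 hodd, one_mul] at hsum
    exact hsum
  have hij' : i ≠ j := fun h => hij (h ▸ rfl)
  obtain ⟨k, hki, hkj⟩ := third i j
  -- a vector of weight two
  obtain ⟨a, b, hab, hw⟩ : ∃ a b, a ≠ b ∧ Pi.single a 1 + Pi.single b 1 ∈ N := by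
    set σ := Equiv.swap i j * Equiv.swap j k with hσ
    have h1 := N.add_mem hv (hN σ (cyc i j k hij' (Ne.symm hki) (Ne.symm hkj)) v hv)
    set u := v + fun l => v (σ⁻¹ l) with hu
    have huo : ∀ l, l ≠ i → l ≠ j → l ≠ k → u l = 0 := by
      intro l hli hlj hlk
      have : σ⁻¹ l = l := by
        rw [hσ, mul_inv_rev, Equiv.swap_inv, Equiv.swap_inv, Equiv.Perm.mul_apply,
          Equiv.swap_apply_of_ne_of_ne hli hlj, Equiv.swap_apply_of_ne_of_ne hlj hlk]
      simp only [hu, Pi.add_apply, this]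
      exact CharTwo.add_self_eq_zero _
    have huj : u j = 1 := by
      have : σ⁻¹ j = i := by
        rw [hσ, mul_inv_rev, Equiv.swap_inv, Equiv.swap_inv, Equiv.Perm.mul_apply,
          Equiv.swap_apply_right, Equiv.swap_apply_of_ne_of_ne hij' (Ne.symm hki)]
      simp only [hu, Pi.add_apply, this]
      revert hij
      generalize v i = x
      generalize v j = y
      revert x y
      decide
    have hus : u i + u k = 1 := by
      have hs : ∑ l, u l = 0 := by
        simp only [hu, Pi.add_apply]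
        rw [Finset.sum_add_distrib, Equiv.sum_comp σ⁻¹ v, hsum, add_zero]
      have h3 : ∑ l, u l = u i + u j + u k := by
        rw [← Finset.sum_subset (Finset.subset_univ {i, j, k}) fun l _ hl => by
          simp only [Finset.mem_insert, Finset.mem_singleton, not_or] at hl
          exact huo l hl.1 hl.2.1 hl.2.2]
        rw [Finset.sum_insert (by simp [hij', Ne.symm hki]), Finset.sum_insert (by simp [Ne.symm hkj]),
          Finset.sum_singleton, add_assoc]
      rw [h3, huj] at hs
      revert hs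
      generalize u i = x
      generalize u k = y
      revert x y
      decide
    rcases (show u i = 1 ∧ u k = 0 ∨ u i = 0 ∧ u k = 1 by
      revert hus
      generalize u i = x
      generalize u k = y
      revert x y
      decide) with ⟨e1, e2⟩ | ⟨e1, e2⟩
    · refine ⟨i, j, hij', ?_⟩
      convert h1 using 1
      ext l
      by_cases hli : l = i
      · subst hli; simp [Pi.single_eq_of_ne hij', e1]
      by_cases hlj : l = j
      · subst hlj; simp [Pi.single_eq_of_ne hli, huj]
      rw [Pi.add_apply, Pi.single_eq_of_ne hli, Pi.single_eq_of_ne hlj, add_zero]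
      by_cases hlk : l = k
      · subst hlk; exact e2.symm
      · exact (huo l hli hlj hlk).symm
    · refine ⟨j, k, Ne.symm hkj, ?_⟩
      convert h1 using 1
      ext l
      by_cases hlk : l = k
      · subst hlk; simp [Pi.single_eq_of_ne hkj, e2]
      by_cases hlj : l = j
      · subst hlj; simp [Pi.single_eq_of_ne hlk, huj]
      rw [Pi.add_apply, Pi.single_eq_of_ne hlk, Pi.single_eq_of_ne hlj, add_zero]
      by_cases hli : l = i
      · subst hli; exact e1.symm
      · exact (huo l hli hlj hlk).symm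
  have hall : ∀ c, c ≠ a → Pi.single a 1 + Pi.single c 1 ∈ N := by
    intro c hca
    by_cases hcb : c = b
    · rwa [hcb]
    have hσ := cyc a b c hab (Ne.symm hca) (Ne.symm hcb)
    convert N.add_mem hw (hN _ hσ _ hw) using 1
    ext l
    simp only [Pi.add_apply, mul_inv_rev, Equiv.swap_inv, Equiv.Perm.mul_apply]
    by_cases hla : l = a
    · subst hla
      simp [Equiv.swap_apply_left, hab, hab.symm, hca, Ne.symm hca, hcb, Ne.symm hcb]
    by_cases hlb : l = b
    · subst hlb
      simp [Equiv.swap_apply_right, Equiv.swap_apply_of_ne_of_ne hab (Ne.symm hca), hab, hab.symm, hca,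
        Ne.symm hca, hcb, Ne.symm hcb, hla]
      exact (CharTwo.add_self_eq_zero _).symm
    by_cases hlc : l = c
    · subst hlc
      simp [Equiv.swap_apply_of_ne_of_ne hla hlb, Equiv.swap_apply_right, hab, hab.symm, hla, hlb,
        Ne.symm hla, Ne.symm hlb]
    simp [Equiv.swap_apply_of_ne_of_ne hla hlb, Equiv.swap_apply_of_ne_of_ne hlb hlc, hla, hlb, hlc]
  intro w hw0
  have e : w = ∑ c ∈ Finset.univ.erase a, if w c = 1 then Pi.single a 1 + Pi.single c 1 else 0 := by
    have h01 : ∀ x : ZMod 2, x = 0 ∨ x = 1 := by decide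
    ext l
    rw [Finset.sum_apply]
    by_cases hla : l = a
    · subst hla
      have h2 : ∀ c ∈ Finset.univ.erase l,
          (if w c = 1 then Pi.single l 1 + Pi.single c 1 else (0 : Fin n → ZMod 2)) l = w c := by
        intro c hc
        rcases h01 (w c) with h | h <;> simp [h, (Finset.ne_of_mem_erase hc).symm]
      rw [Finset.sum_congr rfl h2, Finset.sum_erase_eq_sub (Finset.mem_univ l), hw0, zero_sub]
      generalize w l = x
      revert x
      decide
    · rw [Finset.sum_eq_single l (fun c _ hcl => by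
          rcases h01 (w c) with h | h <;> simp [h, hla, hcl.symm])
        (fun h => absurd (Finset.mem_erase.2 ⟨hla, Finset.mem_univ l⟩) h)]
      rcases h01 (w l) with h | h <;> simp [h, hla]
  rw [e]
  refine N.sum_mem fun c hc => ?_
  split
  · exact hall c (Finset.ne_of_mem_erase hc)
  · exact N.zero_mem

/-! ### The group side -/

variable {G : Type*} [Group G] {p : ℕ}

theorem omegaOneCenter_le (X : Subgroup G) : Cfsg.omegaOneCenter p X ≤ X :=
  (ZJ.omegaOne_le p _).trans inf_le_left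

theorem omegaOneCenter_le_centralizer (X : Subgroup G) :
    Cfsg.omegaOneCenter p X ≤ Subgroup.centralizer (X : Set G) :=
  (ZJ.omegaOne_le p _).trans inf_le_right

theorem pow_eq_one_omegaOneCenter {X : Subgroup G} {x : G} (hx : x ∈ Cfsg.omegaOneCenter p X) :
    x ^ p = 1 := by
  refine Subgroup.closure_induction (p := fun x _ => x ^ p = 1) (fun y hy => hy.2) (one_pow p)
    (fun y z hy hz h1 h2 => ?_) (fun y _ h => by rw [inv_pow, h, inv_one]) hx
  have hy' : y ∈ Cfsg.omegaOneCenter p X := hy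
  have hz' : z ∈ Cfsg.omegaOneCenter p X := hz
  rw [(show Commute y z from Subgroup.mem_centralizer_iff.1 (omegaOneCenter_le_centralizer X hz') y
    (omegaOneCenter_le X hy')).mul_pow, h1, h2, one_mul]

theorem normalizer_le_normalizer_omegaOneCenter (X : Subgroup G) :
    Subgroup.normalizer (X : Set G) ≤ Subgroup.normalizer (Cfsg.omegaOneCenter p X : Set G) :=
  (Coprime.le_normalizer_inf_of_le le_rfl (Coprime.le_normalizer_centralizer le_rfl)).trans
    (ZJ.normalizer_le_normalizer_omegaOne p _)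

theorem le_normalizer_sup {A H K : Subgroup G} (hH : A ≤ Subgroup.normalizer (H : Set G))
    (hK : A ≤ Subgroup.normalizer (K : Set G)) :
    A ≤ Subgroup.normalizer ((H ⊔ K : Subgroup G) : Set G) := by
  intro a ha
  rw [Coprime.mem_normalizer_iff_conj_smul, Subgroup.smul_sup]
  rw [Coprime.mem_normalizer_iff_conj_smul.1 (hH ha), Coprime.mem_normalizer_iff_conj_smul.1 (hK ha)]

/-- A section `U / N` is not equal to its commutator with a subgroup of a nilpotent group. -/
theorem eq_of_eq_commutator_sup {X U P N : Subgroup G} [hX : Group.IsNilpotent X] (hUX : U ≤ X)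
    (hPX : P ≤ X) (hNU : N ≤ U) (hXN : X ≤ Subgroup.normalizer (N : Set G))
    (hPU : P ≤ Subgroup.normalizer (U : Set G)) (h : U = ⁅U, P⁆ ⊔ N) : U = N := by
  by_contra hne
  haveI : (N.subgroupOf X).Normal :=
    (Subgroup.normal_subgroupOf_iff_le_normalizer (hNU.trans hUX)).2 hXN
  set π := QuotientGroup.mk' (N.subgroupOf X)
  haveI : Group.IsNilpotent (↥X ⧸ N.subgroupOf X) :=
    Group.nilpotent_of_surjective π (QuotientGroup.mk'_surjective _)
  haveI : Group.IsNilpotent ↥(⊤ : Subgroup (↥X ⧸ N.subgroupOf X)) :=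
    Group.nilpotent_of_mulEquiv Subgroup.topEquiv.symm
  have he : U.subgroupOf X = ⁅U.subgroupOf X, P.subgroupOf X⁆ ⊔ N.subgroupOf X := by
    apply Subgroup.map_injective X.subtype_injective
    rw [Subgroup.map_sup, Subgroup.map_commutator, Subgroup.map_subgroupOf_eq_of_le hUX,
      Subgroup.map_subgroupOf_eq_of_le hPX, Subgroup.map_subgroupOf_eq_of_le (hNU.trans hUX), ← h]
  have hne' : (U.subgroupOf X).map π ≠ ⊥ := by
    intro h0
    rw [Subgroup.map_eq_bot_iff, QuotientGroup.ker_mk'] at h0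
    exact hne (le_antisymm (fun u hu => h0 (show (⟨u, hUX hu⟩ : X) ∈ U.subgroupOf X from hu)) hNU)
  have hPU' : (P.subgroupOf X).map π ≤
      Subgroup.normalizer ((U.subgroupOf X).map π : Set (↥X ⧸ N.subgroupOf X)) :=
    (Subgroup.map_mono (fun x hx => by
      refine Subgroup.mem_normalizer_iff.2 fun u => ?_
      exact Subgroup.mem_normalizer_iff.1 (hPU hx) (u : G))).trans (Subgroup.le_normalizer_map π)
  have hlt := Coprime.commutator_lt_of_isNilpotent (X := (⊤ : Subgroup (↥X ⧸ N.subgroupOf X)))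
    le_top le_top hPU' hne'
  refine hlt.ne ?_
  rw [← Subgroup.map_commutator]
  conv_rhs => rw [he, Subgroup.map_sup, QuotientGroup.map_mk'_self, sup_bot_eq]

variable [Finite G] [hp : Fact p.Prime]

theorem pCore_le_sylow (T : Sylow p G) : Cfsg.pCore p G ≤ (T : Subgroup G) := fun x hx =>
  Fitting.mem_pCore_iff_forall_sylow.1 hx T

theorem fixed_lt {E : Subgroup G} {T : Subgroup G} (hE : Cfsg.IsBaumannBlock p T E) :
    Cfsg.omegaOneCenter p (Cfsg.pCoreOf p E) ⊓ Subgroup.centralizer (E : Set G) ≠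
      Cfsg.omegaOneCenter p (Cfsg.pCoreOf p E) ∧
    ∀ U : Subgroup G,
      Cfsg.omegaOneCenter p (Cfsg.pCoreOf p E) ⊓ Subgroup.centralizer (E : Set G) ≤ U →
      U ≤ Cfsg.omegaOneCenter p (Cfsg.pCoreOf p E) → E ≤ Subgroup.normalizer (U : Set G) →
      U = Cfsg.omegaOneCenter p (Cfsg.pCoreOf p E) ⊓ Subgroup.centralizer (E : Set G) ∨
        U = Cfsg.omegaOneCenter p (Cfsg.pCoreOf p E) := by
  obtain ⟨hres, -, -, hΩ, hcases⟩ := hE
  set W := Cfsg.omegaOneCenter p (Cfsg.pCoreOf p E)
  set Z := W ⊓ Subgroup.centralizer (E : Set G)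
  rcases hcases with ⟨F, _, _, n, -, -, hact, -⟩ | ⟨rfl, m, ⟨e⟩, hact, -⟩
  · obtain ⟨-, -, ρ, ψ, hρ, hψ, hker, heq⟩ := hact
    refine ⟨fun h => ?_, fun U hZU hUW hEU => ?_⟩
    · obtain ⟨u, hu⟩ := hψ (Multiplicative.ofAdd ![1, 0])
      have h1 : ψ u = 1 := (hker u).2 (h.ge u.2)
      rw [h1] at hu
      simpa using congrFun (congrArg Multiplicative.toAdd hu) 0
    by_cases hU : U ≤ Z
    · exact Or.inl (le_antisymm hU hZU)
    right
    obtain ⟨u₀, hu₀, hu₀Z⟩ := SetLike.not_le_iff_exists.1 hU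
    let N : AddSubgroup (Fin 2 → F) :=
      { carrier := {x | ∃ u : W, (u : G) ∈ U ∧ Multiplicative.toAdd (ψ u) = x}
        zero_mem' := ⟨1, one_mem U, by simp⟩
        add_mem' := by
          rintro _ _ ⟨a, ha, rfl⟩ ⟨b, hb, rfl⟩
          exact ⟨a * b, mul_mem ha hb, by rw [map_mul]; rfl⟩
        neg_mem' := by
          rintro _ ⟨a, ha, rfl⟩
          exact ⟨a⁻¹, inv_mem ha, by rw [map_inv]; rfl⟩ }
    have hN : ∀ g ∈ commutator (SL(2, F)), ∀ v ∈ N, (g : Matrix (Fin 2) (Fin 2) F).mulVec v ∈ N := by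
      rintro g hg _ ⟨u, hu, rfl⟩
      rw [← hρ] at hg
      obtain ⟨x, rfl⟩ := hg
      obtain ⟨w, hw, hw'⟩ := heq x u
      exact ⟨w, hw ▸ (Subgroup.mem_normalizer_iff.1 (hEU x.2) _).1 hu, hw'⟩
    have htop : N = ⊤ := derived_span N hN (v := Multiplicative.toAdd (ψ ⟨u₀, hUW hu₀⟩))
      ⟨_, hu₀, rfl⟩ fun h0 => hu₀Z ((hker _).1 (toAdd_eq_zero.1 h0))
    refine le_antisymm hUW fun w hw => ?_
    obtain ⟨u, hu, hu'⟩ := htop.ge (AddSubgroup.mem_top (Multiplicative.toAdd (ψ ⟨w, hw⟩)))
    have h1 : ((u⁻¹ * ⟨w, hw⟩ : W) : G) ∈ Z := (hker _).1 (by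
      rw [map_mul, map_inv, Multiplicative.toAdd.injective hu', inv_mul_cancel])
    have h2 := mul_mem hu (hZU h1)
    simpa using h2
  · obtain ⟨-, -, ρ, ψ, hρ, heven, hψ, hker, heq⟩ := hact
    rcases Nat.eq_zero_or_pos m with rfl | hm
    · exfalso
      apply hΩ
      haveI : Subsingleton (Fin (2 * 0 + 1)) := ⟨fun a b => Fin.ext (by omega)⟩
      haveI : Subsingleton (↥E ⧸ Cfsg.pCore 2 ↥E) := e.toEquiv.subsingleton
      have htop : Cfsg.pCore 2 ↥E = ⊤ := QuotientGroup.subsingleton_iff.1 inferInstance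
      have hEp : IsPGroup 2 E := by
        have h := Fitting.pCore_isPGroup (G := ↥E) 2
        rw [htop] at h
        exact h.of_equiv Subgroup.topEquiv
      have hE1 : E = ⊥ := by
        rw [← hres, pResidualOf_eq_pRes, ThompsonWielandt.pRes, Subgroup.closure_eq_bot_iff]
        rintro x ⟨hx, hx2⟩
        obtain ⟨k, hk⟩ := IsPGroup.iff_orderOf.1 hEp ⟨x, hx⟩
        rw [Subgroup.orderOf_mk] at hk
        rw [hk] at hx2
        exact orderOf_eq_one_iff.1 (hk.trans ((Nat.coprime_self _).1 (hx2.pow_right k)))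
      rw [hE1, Subgroup.commutator_bot_left]
    have hodd : Odd (2 * m + 1) := ⟨m, rfl⟩
    have h3 : 3 ≤ 2 * m + 1 := by omega
    refine ⟨fun h => ?_, fun U hZU hUW hEU => ?_⟩
    · set a₀ : Fin (2 * m + 1) := ⟨0, by omega⟩ with ha₀
      set a₁ : Fin (2 * m + 1) := ⟨1, by omega⟩ with ha₁
      have h01 : a₀ ≠ a₁ := fun h => by simp [ha₀, ha₁] at h
      obtain ⟨u, hu⟩ := hψ (Pi.single a₀ 1 + Pi.single a₁ 1) (by
        simp [Finset.sum_add_distrib]
        exact CharTwo.add_self_eq_zero _)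
      have h1 : ψ u = 1 := (hker u).2 (h.ge u.2)
      rw [h1] at hu
      have := congrFun hu a₀
      simp [Pi.single_eq_of_ne h01] at this
    by_cases hU : U ≤ Z
    · exact Or.inl (le_antisymm hU hZU)
    right
    obtain ⟨u₀, hu₀, hu₀Z⟩ := SetLike.not_le_iff_exists.1 hU
    let N : AddSubgroup (Fin (2 * m + 1) → ZMod 2) :=
      { carrier := {x | ∃ u : W, (u : G) ∈ U ∧ Multiplicative.toAdd (ψ u) = x}
        zero_mem' := ⟨1, one_mem U, by simp⟩
        add_mem' := by
          rintro _ _ ⟨a, ha, rfl⟩ ⟨b, hb, rfl⟩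
          exact ⟨a * b, mul_mem ha hb, by rw [map_mul]; rfl⟩
        neg_mem' := by
          rintro _ ⟨a, ha, rfl⟩
          exact ⟨a⁻¹, inv_mem ha, by rw [map_inv]; rfl⟩ }
    have hN : ∀ σ ∈ alternatingGroup (Fin (2 * m + 1)), ∀ v ∈ N, (fun i => v (σ⁻¹ i)) ∈ N := by
      rintro σ hσ _ ⟨u, hu, rfl⟩
      rw [← hρ] at hσ
      obtain ⟨x, rfl⟩ := hσ
      obtain ⟨w, hw, hw'⟩ := heq x u
      exact ⟨w, hw ▸ (Subgroup.mem_normalizer_iff.1 (hEU x.2) _).1 hu, funext hw'⟩
    refine le_antisymm hUW fun w hw => ?_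
    obtain ⟨u, hu, hu'⟩ := alternating_span h3 hodd N hN
      (v := Multiplicative.toAdd (ψ ⟨u₀, hUW hu₀⟩)) ⟨_, hu₀, rfl⟩
      (fun h0 => hu₀Z ((hker _).1 (toAdd_eq_zero.1 h0))) (heven _) _ (heven ⟨w, hw⟩)
    have h1 : ((u⁻¹ * ⟨w, hw⟩ : W) : G) ∈ Z := (hker _).1 (by
      rw [map_mul, map_inv, Multiplicative.toAdd.injective hu', inv_mul_cancel])
    have h2 := mul_mem hu (hZU h1)
    simpa using h2

/-- The commutator of a block with its module is central in `O_p(G)` and moved by `J(T)`. -/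
theorem block_module (hG : Subgroup.centralizer (Cfsg.pCore p G : Set G) ≤ Cfsg.pCore p G)
    (T : Sylow p G) {E : Subgroup G} (hE : Cfsg.IsBaumannBlock p (T : Subgroup G) E) :
    Cfsg.pResidualOf p (E ⊔ Cfsg.pCore p G) = E ∧
      ⁅Cfsg.omegaOneCenter p (Cfsg.pCoreOf p E), E⁆ ≤ Cfsg.omegaOneCenter p (Cfsg.pCore p G) ∧
      ⁅⁅Cfsg.omegaOneCenter p (Cfsg.pCoreOf p E), E⁆,
        Cfsg.thompsonSubgroupOf p (T : Subgroup G)⁆ ≠ ⊥ := by
  set Qg := Cfsg.pCore p G with hQg
  haveI hQgn : Qg.Normal := Fitting.pCore_normal p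
  have hQgp : IsPGroup p Qg := Fitting.pCore_isPGroup p
  set Q := Cfsg.pCoreOf p E with hQ
  set W := Cfsg.omegaOneCenter p Q with hW
  set B := Cfsg.baumannSubgroupOf p (T : Subgroup G) with hB
  have hQgE : Qg ≤ Subgroup.normalizer (E : Set G) :=
    le_normalizer_block T hE.1 hE.2.1 hQgp Subgroup.le_normalizer_of_normal
      Subgroup.le_normalizer_of_normal
  refine ⟨?_, ?_⟩
  · rw [pResidualOf_eq_pRes]
    refine le_antisymm ((Subgroup.closure_le _).2 fun x hx =>
      mem_of_coprime_orderOf hQgp hQgE hx.1 hx.2) ?_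
    conv_lhs => rw [← hE.1, pResidualOf_eq_pRes]
    exact Subgroup.closure_mono fun x hx => ⟨Subgroup.mem_sup_left hx.1, hx.2⟩
  obtain ⟨hne, hirr⟩ := fixed_lt hE
  have hEQ : E ≤ Subgroup.normalizer (Q : Set G) :=
    Signalizer.normalizer_le_normalizer_pCoreOf p Subgroup.le_normalizer
  have hgQ : Qg ≤ Subgroup.normalizer (Q : Set G) := Signalizer.normalizer_le_normalizer_pCoreOf p hQgE
  have hEW := hEQ.trans (normalizer_le_normalizer_omegaOneCenter (p := p) Q)
  have hgW := hgQ.trans (normalizer_le_normalizer_omegaOneCenter (p := p) Q)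
  have hgEQ : ⁅Qg, E⁆ ≤ Q := by
    have h1 : ⁅Qg, E⁆ ≤ E ⊓ Qg :=
      le_inf (Subgroup.le_normalizer_iff_commutator_le_right.1 hQgE) (Subgroup.commutator_le_left Qg E)
    refine h1.trans fun x hx => ?_
    refine ⟨⟨x, (Subgroup.mem_inf.1 hx).1⟩, ?_, rfl⟩
    refine Fitting.le_pCore (inferInstance : (Qg.subgroupOf E).Normal) ?_
      (show (⟨x, _⟩ : E) ∈ Qg.subgroupOf E from (Subgroup.mem_inf.1 hx).2)
    exact (hQgp.to_le (inf_le_left : Qg ⊓ E ≤ Qg)).of_equiv
      ((MulEquiv.subgroupCongr rfl).trans (by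
        rw [← Subgroup.inf_subgroupOf_right Qg E]
        exact (Subgroup.subgroupOfEquivOfLe inf_le_right).symm))
  set Z := W ⊓ Subgroup.centralizer (E : Set G) with hZ
  have hEZ : E ≤ Subgroup.normalizer (Z : Set G) :=
    Coprime.le_normalizer_inf_of_le hEW (Coprime.le_normalizer_centralizer Subgroup.le_normalizer)
  have hgZ : Qg ≤ Subgroup.normalizer (Z : Set G) :=
    Coprime.le_normalizer_inf_of_le hgW (Coprime.le_normalizer_centralizer hQgE)
  have hWp : IsPGroup p W :=
    ((Fitting.pCore_isPGroup (G := ↥E) p).map E.subtype).to_le (omegaOneCenter_le Q)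
  have hWab : W ≤ Subgroup.centralizer (W : Set G) :=
    (omegaOneCenter_le_centralizer Q).trans (Subgroup.centralizer_le (omegaOneCenter_le Q))
  -- `O_p(G)` centralizes `W / Z`
  have hWg : ⁅W, Qg⁆ ≤ Z := by
    have hXW : ⁅W, Qg⁆ ⊔ Z ≤ W :=
      sup_le (Coprime.commutator_le_left_of_le_normalizer hgW) inf_le_left
    rcases hirr _ le_sup_right hXW (le_normalizer_sup
      (Coprime.le_normalizer_commutator hEW Subgroup.le_normalizer_of_normal) hEZ) with h | h
    · exact le_sup_left.trans h.le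
    · haveI : Group.IsNilpotent ↥(W ⊔ Qg) :=
        (IsPGroup.to_sup_of_normal_left' hWp hQgp hgW).isNilpotent
      refine absurd (eq_of_eq_commutator_sup le_sup_left le_sup_right inf_le_left
        (sup_le ?_ hgZ) hgW h.symm).symm hne
      exact (hWab.trans (Subgroup.centralizer_le (SetLike.coe_subset_coe.2 inf_le_left))).trans
        (Subgroup.centralizer_le_normalizer _)
  set W' := ⁅W, E⁆ with hW'
  have h3sub : ⁅W', Qg⁆ = ⊥ := by
    refine Subgroup.commutator_commutator_eq_bot_of_rotate ?_ ?_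
    · rw [Subgroup.commutator_comm E Qg, Subgroup.commutator_eq_bot_iff_le_centralizer]
      exact hgEQ.trans ((Subgroup.le_centralizer_iff.1 (omegaOneCenter_le_centralizer Q)))
    · rw [Subgroup.commutator_comm Qg W, Subgroup.commutator_eq_bot_iff_le_centralizer]
      exact hWg.trans inf_le_right
  have hW'W : W' ≤ W := Coprime.commutator_le_left_of_le_normalizer hEW
  have hW'C : W' ≤ Subgroup.centralizer (Qg : Set G) :=
    Subgroup.commutator_eq_bot_iff_le_centralizer.1 h3sub
  refine ⟨fun x hx => Subgroup.subset_closure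
    ⟨Subgroup.mem_inf.2 ⟨hG (hW'C hx), hW'C hx⟩, pow_eq_one_omegaOneCenter (hW'W hx)⟩, ?_⟩
  intro hJ
  rw [thompsonSubgroupOf_eq, Subgroup.commutator_eq_bot_iff_le_centralizer] at hJ
  have hW'T : W' ≤ (T : Subgroup G) := fun x hx => pCore_le_sylow T (hG (hW'C hx))
  have hW'A : ∀ A ∈ maxAbExp p (T : Subgroup G), W' ≤ A := by
    rintro A ⟨hAT, ⟨hAc, hAe⟩, hmax⟩
    have hAJ : A ≤ thompsonJ p (T : Subgroup G) := le_sSup ⟨hAT, ⟨hAc, hAe⟩, hmax⟩
    have hWA : W' ≤ Subgroup.centralizer (A : Set G) := hJ.trans (Subgroup.centralizer_le hAJ)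
    have hab : A ⊔ W' ≤ Subgroup.centralizer ((A ⊔ W' : Subgroup G) : Set G) :=
      sup_le
        (Subgroup.le_centralizer_iff.1 (sup_le (Subgroup.le_centralizer_iff_isMulCommutative.2 hAc) hWA))
        (Subgroup.le_centralizer_iff.1 (sup_le (Subgroup.le_centralizer_iff.1 hWA)
          ((hW'W.trans hWab).trans (Subgroup.centralizer_le hW'W))))
    have hsup : IsAbExp p (A ⊔ W') := by
      refine ⟨Subgroup.le_centralizer_iff_isMulCommutative.1 hab, fun a ha => ?_⟩
      refine Subgroup.closure_induction (p := fun x _ => x ^ p = 1)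
        (fun x hx => hx.elim (hAe x) (fun h => pow_eq_one_omegaOneCenter (hW'W h))) (one_pow p)
        (fun x y hx hy h1 h2 => ?_) (fun x _ h => by rw [inv_pow, h, inv_one])
        ((Subgroup.sup_eq_closure A W').le ha)
      rw [(show Commute x y from Subgroup.mem_centralizer_iff.1
        (hab ((Subgroup.sup_eq_closure A W').ge hy)) x
        ((Subgroup.sup_eq_closure A W').ge hx)).mul_pow, h1, h2, one_mul]
    exact le_sup_right.trans
      (Subgroup.eq_of_le_of_card_ge le_sup_left (hmax _ (sup_le hAT hW'T) hsup)).ge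
  obtain ⟨A₀, hA₀⟩ := thompsonJ_nonempty p (T : Subgroup G)
  have hW'Ω : W' ≤ Cfsg.omegaOne p (ZJ.zJ p (T : Subgroup G)) := fun x hx => Subgroup.subset_closure
    ⟨Subgroup.mem_inf.2 ⟨le_sSup hA₀ (hW'A A₀ hA₀ hx), hJ hx⟩, pow_eq_one_omegaOneCenter (hW'W hx)⟩
  have hEW' : E ≤ Subgroup.normalizer (W' : Set G) := Subgroup.normalizer_commutator_ge_right W E
  have hcent : E ≤ Subgroup.centralizer (W' : Set G) := by
    rw [← hE.2.1, Subgroup.commutator_le]
    intro e he b hb
    have hbC : b ∈ Subgroup.centralizer (W' : Set G) := by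
      rw [baumann_eq] at hb
      exact Subgroup.centralizer_le hW'Ω (Subgroup.mem_inf.1 hb).2
    rw [commutatorElement_def]
    refine mul_mem ((Subgroup.mem_normalizer_iff.1 ?_ b).1 hbC) (inv_mem hbC)
    exact Coprime.le_normalizer_centralizer hEW' he
  apply hne
  refine le_antisymm inf_le_left (le_inf le_rfl ?_)
  rw [Subgroup.le_centralizer_iff]
  conv_lhs => rw [← hE.1, pResidualOf_eq_pRes]
  refine (Subgroup.closure_le _).2 fun e he => Subgroup.mem_centralizer_iff.2 fun w hw => ?_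
  set c := w * e * w⁻¹ * e⁻¹ with hc
  have hcW' : c ∈ W' := Subgroup.commutator_mem_commutator hw he.1
  have hce : Commute c e := Subgroup.mem_centralizer_iff.1 (hcent he.1) c hcW'
  have h1 : w * e * w⁻¹ = c * e := by rw [hc]; group
  have h2 : ∀ k : ℕ, w * e ^ k * w⁻¹ = c ^ k * e ^ k := fun k => by
    rw [← conj_pow, h1, hce.mul_pow]
  have h3 : c ^ orderOf e = 1 := by
    have := h2 (orderOf e)
    rw [pow_orderOf_eq_one, mul_one, mul_inv_cancel, mul_one] at this
    exact this.symm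
  have h4 : orderOf c = 1 := Nat.eq_one_of_dvd_coprimes he.2 (orderOf_dvd_of_pow_eq_one h3)
    (orderOf_dvd_of_pow_eq_one (pow_eq_one_omegaOneCenter (hW'W hcW')))
  rw [orderOf_eq_one_iff] at h4
  rw [h4, one_mul] at h1
  calc w * e = w * e * w⁻¹ * w := by group
    _ = e * w := by rw [h1]

end CfsgLib.LocalCGT
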