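import Cfsg.Prelude.Def_BaumannBlocks
import Cfsg.Agent.Lib.ThompsonWielandt.PSubgroup
import Cfsg.Agent.Lib.ZJ.Centers
import Cfsg.Agent.Lib.Signalizer.Radical
import Cfsg.Agent.Lib.JComp.Basic

/-!
Blocks relative to the Baumann subgroup: the `p`-subgroups normalized by a block and by the
Baumann subgroup normalize the block.
-/

set_option autoImplicit false
set_option linter.unusedSectionVars false

namespace CfsgLib.LocalCGT

open CfsgLib.Transfer
open scoped commutatorElement Pointwise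

variable {G : Type*} [Group G] {p : ℕ}

theorem pResidualOf_eq_pRes (S : Subgroup G) :
    Cfsg.pResidualOf p S = ThompsonWielandt.pRes p S := by
  rw [Cfsg.pResidualOf, Cfsg.pResidual, ThompsonWielandt.pRes, MonoidHom.map_closure]
  congr 1
  ext x
  constructor
  · rintro ⟨y, hy, rfl⟩
    exact ⟨y.2, by rw [Subgroup.coe_subtype, Subgroup.orderOf_coe]; exact hy⟩
  · rintro ⟨hx, hxp⟩
    exact ⟨⟨x, hx⟩, by rwa [Set.mem_setOf_eq, Subgroup.orderOf_mk], rfl⟩

/-- An element of `E R` of order prime to `p` lies in `E`, for a `p`-group `R` normalizing `E`. -/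
theorem mem_of_coprime_orderOf [hp : Fact p.Prime] {E R : Subgroup G} (hR : IsPGroup p R)
    (hRE : R ≤ Subgroup.normalizer (E : Set G)) {x : G} (hx : x ∈ E ⊔ R)
    (hxp : (orderOf x).Coprime p) : x ∈ E := by
  have hle : E ⊔ R ≤ Subgroup.normalizer (E : Set G) := sup_le Subgroup.le_normalizer hRE
  haveI : (E.subgroupOf (E ⊔ R)).Normal :=
    (Subgroup.normal_subgroupOf_iff_le_normalizer le_sup_left).2 hle
  set π := QuotientGroup.mk' (E.subgroupOf (E ⊔ R))
  have hx' : x ∈ (E : Set G) * (R : Set G) := by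
    rw [← Subgroup.coe_mul_of_right_le_normalizer_left E R hRE]
    exact hx
  obtain ⟨e, he, r, hr, rfl⟩ := hx'
  change (orderOf (e * r)).Coprime p at hxp
  have h1 : π ⟨e * r, hx⟩ = π ⟨r, Subgroup.mem_sup_right hr⟩ := by
    rw [show (⟨e * r, hx⟩ : ↥(E ⊔ R)) = ⟨e, Subgroup.mem_sup_left he⟩ * ⟨r, Subgroup.mem_sup_right hr⟩
      from rfl, map_mul, show π ⟨e, Subgroup.mem_sup_left he⟩ = 1 from (QuotientGroup.eq_one_iff _).2 he, one_mul]
  obtain ⟨k, hk⟩ := IsPGroup.iff_orderOf.1 hR ⟨r, hr⟩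
  rw [Subgroup.orderOf_mk] at hk
  have h2 : orderOf (π ⟨e * r, hx⟩) ∣ p ^ k := by
    rw [h1, ← hk]
    exact (orderOf_map_dvd π _).trans (by rw [Subgroup.orderOf_mk])
  have h3 : orderOf (π ⟨e * r, hx⟩) ∣ orderOf (e * r) :=
    (orderOf_map_dvd π _).trans (by rw [Subgroup.orderOf_mk])
  have h4 := orderOf_eq_one_iff.1 (Nat.eq_one_of_dvd_coprimes (hxp.pow_right k) h3 h2)
  exact (QuotientGroup.eq_one_iff (⟨e * r, hx⟩ : ↥(E ⊔ R))).1 h4

/-- `g` normalizes the section `U / R` and centralizes it. -/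
def sectionCent (U R : Subgroup G) (hR : R ≤ U) : Subgroup G where
  carrier := {g | g ∈ Subgroup.normalizer (U : Set G) ∧ g ∈ Subgroup.normalizer (R : Set G) ∧
    ∀ u ∈ U, g * u * g⁻¹ * u⁻¹ ∈ R}
  one_mem' := ⟨one_mem _, one_mem _, fun u _ => by simp⟩
  mul_mem' := by
    rintro a b ⟨haU, haR, ha⟩ ⟨hbU, hbR, hb⟩
    refine ⟨mul_mem haU hbU, mul_mem haR hbR, fun u hu => ?_⟩
    have hbu : b * u * b⁻¹ ∈ U := (Subgroup.mem_normalizer_iff.1 hbU u).1 hu
    have := mul_mem (ha _ hbu) (hb u hu)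
    simpa [mul_assoc] using this
  inv_mem' := by
    rintro a ⟨haU, haR, ha⟩
    refine ⟨inv_mem haU, inv_mem haR, fun u hu => ?_⟩
    have hau : a⁻¹ * u * a ∈ U := by
      have := (Subgroup.mem_normalizer_iff.1 (inv_mem haU) u).1 hu
      simpa using this
    have := inv_mem (ha _ hau)
    simpa [mul_assoc] using this

theorem sectionCent_normalizes {U R : Subgroup G} (hR : R ≤ U) {g k : G}
    (hgU : g ∈ Subgroup.normalizer (U : Set G)) (hgR : g ∈ Subgroup.normalizer (R : Set G))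
    (hk : k ∈ sectionCent U R hR) : g * k * g⁻¹ ∈ sectionCent U R hR := by
  obtain ⟨hkU, hkR, h⟩ := hk
  refine ⟨mul_mem (mul_mem hgU hkU) (inv_mem hgU), mul_mem (mul_mem hgR hkR) (inv_mem hgR),
    fun u hu => ?_⟩
  have hu' : g⁻¹ * u * g ∈ U := by
    have := (Subgroup.mem_normalizer_iff.1 (inv_mem hgU) u).1 hu
    simpa using this
  have := (Subgroup.mem_normalizer_iff.1 hgR _).1 (h _ hu')
  simpa [mul_assoc] using this

/-- If `B` centralizes a section, so does `[A, B]` for `A` normalizing the section. -/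
theorem commutator_le_sectionCent {U R A B : Subgroup G} (hR : R ≤ U)
    (hAU : A ≤ Subgroup.normalizer (U : Set G)) (hAR : A ≤ Subgroup.normalizer (R : Set G))
    (hB : B ≤ sectionCent U R hR) : ⁅A, B⁆ ≤ sectionCent U R hR :=
  Subgroup.commutator_le.2 fun a ha b hb => by
    rw [commutatorElement_def]
    exact mul_mem (sectionCent_normalizes hR (hAU ha) (hAR ha) (hB hb)) (inv_mem (hB hb))

theorem baumann_le (T : Subgroup G) : Cfsg.baumannSubgroupOf p T ≤ T := inf_le_left

theorem baumann_eq (T : Subgroup G) : Cfsg.baumannSubgroupOf p T =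
    T ⊓ Subgroup.centralizer (Cfsg.omegaOne p (ZJ.zJ p T) : Set G) := by
  rw [Cfsg.baumannSubgroupOf, ZJ.centerThompsonOf_eq]

theorem thompsonJ_le_baumann (T : Subgroup G) : thompsonJ p T ≤ Cfsg.baumannSubgroupOf p T := by
  rw [baumann_eq]
  refine le_inf (thompsonJ_le p T) (Subgroup.le_centralizer_iff.2 ?_)
  exact ((ZJ.omegaOne_le p _).trans inf_le_right)

theorem normalizer_le_normalizer_baumann (T : Subgroup G) :
    Subgroup.normalizer (T : Set G) ≤ Subgroup.normalizer (Cfsg.baumannSubgroupOf p T : Set G) := by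
  rw [baumann_eq]
  exact Coprime.le_normalizer_inf_of_le le_rfl (Coprime.le_normalizer_centralizer
    ((ZJ.normalizer_le_normalizer_zJ p T).trans (ZJ.normalizer_le_normalizer_omegaOne p _)))

theorem map_baumann {G' : Type*} [Group G'] (f : G ≃* G') (T : Subgroup G) :
    (Cfsg.baumannSubgroupOf p T).map f.toMonoidHom =
      Cfsg.baumannSubgroupOf p (T.map f.toMonoidHom) := by
  rw [baumann_eq, baumann_eq, Subgroup.map_inf _ _ _ f.injective, ← ZJ.map_zJ p f.toMonoidHom
    f.injective.injOn, ← ZJ.map_omegaOne p f.toMonoidHom f.injective.injOn]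
  congr 1
  ext x
  simp only [Subgroup.mem_map, Subgroup.mem_centralizer_iff, SetLike.mem_coe]
  constructor
  · rintro ⟨y, hy, rfl⟩ z ⟨w, hw, rfl⟩
    rw [← map_mul, ← map_mul, hy w hw]
  · intro h
    refine ⟨f.symm x, fun w hw => f.injective ?_, f.apply_symm_apply x⟩
    have := h (f w) ⟨w, hw, rfl⟩
    simp only [map_mul, MulEquiv.apply_symm_apply]
    exact this

/-- The Baumann subgroup is the same for all Sylow subgroups containing it. -/
theorem baumann_eq_of_le [Finite G] [Fact p.Prime] (T S : Sylow p G)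
    (h : Cfsg.baumannSubgroupOf p (T : Subgroup G) ≤ (S : Subgroup G)) :
    Cfsg.baumannSubgroupOf p (S : Subgroup G) = Cfsg.baumannSubgroupOf p (T : Subgroup G) := by
  obtain ⟨g, hg⟩ := MulAction.exists_smul_eq G T S
  have hmap : (T : Subgroup G).map (MulAut.conj g).toMonoidHom = (S : Subgroup G) := by
    rw [← hg]; rfl
  set f := MulAut.conj g with hf
  have hsub : maxAbExp p (T : Subgroup G) ⊆ maxAbExp p (S : Subgroup G) := by
    rintro A ⟨hAT, hAe, hmax⟩
    refine ⟨((le_sSup (show A ∈ maxAbExp p (T : Subgroup G) from ⟨hAT, hAe, hmax⟩)).trans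
      (thompsonJ_le_baumann _)).trans h, hAe, fun B hB hBe => ?_⟩
    have h1 := hmax (B.map f.symm.toMonoidHom) (by
      rw [Subgroup.map_le_iff_le_comap]
      intro b hb
      obtain ⟨t, ht, htb⟩ := hmap.ge (hB hb)
      show f.symm b ∈ (T : Subgroup G)
      rw [← htb]
      exact (f.symm_apply_apply t).symm ▸ ht)
      ((isAbExp_map_iff p _ f.symm.injective.injOn).2 hBe)
    rwa [Subgroup.card_map_of_injective (f := f.symm.toMonoidHom) f.symm.injective] at h1
  have hJ : thompsonJ p (T : Subgroup G) = thompsonJ p (S : Subgroup G) := by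
    refine Subgroup.eq_of_le_of_card_ge (sSup_le_sSup hsub) (le_of_eq ?_)
    rw [← hmap, ← map_thompsonJ p f.toMonoidHom f.injective.injOn,
      Subgroup.card_map_of_injective (f := f.toMonoidHom) f.injective]
  refine (Subgroup.eq_of_le_of_card_ge ?_ (le_of_eq ?_)).symm
  · intro x hx
    rw [baumann_eq, ZJ.zJ, ← hJ]
    refine Subgroup.mem_inf.2 ⟨h hx, ?_⟩
    rw [baumann_eq, ZJ.zJ] at hx
    exact (Subgroup.mem_inf.1 hx).2
  · rw [← hmap, ← map_baumann, Subgroup.card_map_of_injective (f := f.toMonoidHom) f.injective]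

variable [Finite G] [hp : Fact p.Prime]

/-- `E` is generated by its elements of order prime to `p` and equals `[E, B]`. -/
theorem le_normalizer_block (T : Sylow p G) {E Q : Subgroup G}
    (hres : Cfsg.pResidualOf p E = E)
    (hEB : ⁅E, Cfsg.baumannSubgroupOf p (T : Subgroup G)⁆ = E) (hQ : IsPGroup p Q)
    (hBQ : Cfsg.baumannSubgroupOf p (T : Subgroup G) ≤ Subgroup.normalizer (Q : Set G))
    (hEQ : E ≤ Subgroup.normalizer (Q : Set G)) : Q ≤ Subgroup.normalizer (E : Set G) := by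
  set B := Cfsg.baumannSubgroupOf p (T : Subgroup G) with hB
  have hBp : IsPGroup p B := T.2.to_le (baumann_le _)
  obtain ⟨S, hS⟩ := (IsPGroup.to_sup_of_normal_left' hQ hBp hBQ).exists_le_sylow
  have hBS : B ≤ (S : Subgroup G) := le_sup_right.trans hS
  have hSB : (S : Subgroup G) ≤ Subgroup.normalizer (B : Set G) := by
    rw [hB, ← baumann_eq_of_le T S hBS]
    exact Subgroup.le_normalizer.trans (normalizer_le_normalizer_baumann _)
  have hQB : Q ≤ Subgroup.normalizer (B : Set G) := (le_sup_left.trans hS).trans hSB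
  have hBE : B ≤ Subgroup.normalizer (E : Set G) := JComp.le_normalizer_of_commutator_eq hEB
  -- the core of `N_Q(E)` in `Q`
  let R : Subgroup G := Q ⊓ ⨅ q ∈ Q, (Subgroup.normalizer (E : Set G)).comap
    (MulAut.conj q).toMonoidHom
  have hmem : ∀ x, x ∈ R ↔ x ∈ Q ∧ ∀ q ∈ Q, q * x * q⁻¹ ∈ Subgroup.normalizer (E : Set G) := by
    intro x
    simp [R, Subgroup.mem_iInf, Subgroup.mem_inf]
  have hRQ : R ≤ Q := inf_le_left
  have hRE : R ≤ Subgroup.normalizer (E : Set G) := fun x hx => by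
    have := ((hmem x).1 hx).2 1 (one_mem Q)
    simpa using this
  have hRn : ∀ a : G, a ∈ Subgroup.normalizer (Q : Set G) → a ∈ Subgroup.normalizer (E : Set G) →
      a ∈ Subgroup.normalizer (R : Set G) := by
    have key : ∀ a : G, a ∈ Subgroup.normalizer (Q : Set G) → a ∈ Subgroup.normalizer (E : Set G) →
        ∀ x ∈ R, a * x * a⁻¹ ∈ R := by
      intro a haQ haE x hx
      obtain ⟨hxQ, hx⟩ := (hmem x).1 hx
      refine (hmem _).2 ⟨(Subgroup.mem_normalizer_iff.1 haQ x).1 hxQ, fun q hq => ?_⟩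
      have hq' : a⁻¹ * q * a ∈ Q := by
        have := (Subgroup.mem_normalizer_iff.1 (inv_mem haQ) q).1 hq
        simpa using this
      have := mul_mem (mul_mem haE (hx _ hq')) (inv_mem haE)
      simpa [mul_assoc] using this
    intro a haQ haE
    refine Subgroup.mem_normalizer_iff.2 fun x => ⟨key a haQ haE x, fun h => ?_⟩
    have := key a⁻¹ (inv_mem haQ) (inv_mem haE) _ h
    simpa [mul_assoc] using this
  -- `B` centralizes `Q / R`
  have hBc : B ≤ sectionCent Q R hRQ := by
    intro b hb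
    refine ⟨hBQ hb, hRn b (hBQ hb) (hBE hb), fun u hu => (hmem _).2 ⟨?_, fun q hq => hBE ?_⟩⟩
    · exact mul_mem ((Subgroup.mem_normalizer_iff.1 (hBQ hb) u).1 hu) (inv_mem hu)
    · have h1 : b * (u * b⁻¹ * u⁻¹) ∈ B :=
        mul_mem hb ((Subgroup.mem_normalizer_iff.1 (hQB hu) _).1 (inv_mem hb))
      have := (Subgroup.mem_normalizer_iff.1 (hQB hq) _).1 h1
      simpa [mul_assoc] using this
  have hEc : E ≤ sectionCent Q R hRQ :=
    hEB.ge.trans (commutator_le_sectionCent hRQ hEQ
      (fun e he => hRn e (hEQ he) (Subgroup.le_normalizer he)) hBc)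
  rw [← hres, pResidualOf_eq_pRes]
  intro q hq
  refine ThompsonWielandt.mem_normalizer_pRes fun x hx hxp => ?_
  refine mem_of_coprime_orderOf (hQ.to_le hRQ) hRE ?_
    (by rwa [show q * x * q⁻¹ = MulAut.conj q x from rfl, (MulAut.conj q).orderOf_eq])
  have h1 : x⁻¹ * (q * x * q⁻¹) ∈ R := by
    have := (hEc (inv_mem hx)).2.2 q hq
    simpa [mul_assoc] using this
  rw [show q * x * q⁻¹ = x * (x⁻¹ * (q * x * q⁻¹)) by group]
  exact mul_mem (Subgroup.mem_sup_left hx) (Subgroup.mem_sup_right h1)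

end CfsgLib.LocalCGT
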